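import Groth.Agent.EtaleDec.Iso
import Mathlib.RingTheory.TensorProduct.Pi
import Mathlib.RingTheory.Idempotents
import Mathlib.RingTheory.Localization.Away.Basic

/-!
Étale decomposition of a finite type algebra along the isolated primes of a fibre.
-/

universe u

open TensorProduct

namespace Groth.Agent.EtaleDec

/-- The splitting map attached to an idempotent. -/
noncomputable def splitIdem {R T : Type u} [CommRing R] [CommRing T] [Algebra R T] (e : T)
    (he : IsIdempotentElem e) :
    T ≃ₐ[R] Localization.Away e × (T ⧸ Ideal.span {e}) :=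
  AlgEquiv.ofBijective ((IsScalarTower.toAlgHom R T (Localization.Away e)).prod
    (Ideal.Quotient.mkₐ R (Ideal.span {e}))) (by
    have h1 : algebraMap T (Localization.Away e) e = 1 := by
      have hu : IsUnit (algebraMap T (Localization.Away e) e) :=
        IsLocalization.Away.algebraMap_isUnit e
      exact (IsIdempotentElem.iff_eq_one_of_isUnit hu).mp (he.map _)
    constructor
    · rw [injective_iff_map_eq_zero]
      intro x hx
      obtain ⟨h₁, h₂⟩ : algebraMap T (Localization.Away e) x = 0 ∧
          Ideal.Quotient.mk (Ideal.span {e}) x = 0 := Prod.ext_iff.mp hx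
      obtain ⟨⟨m, n, rfl⟩, hm⟩ :=
        (IsLocalization.map_eq_zero_iff (Submonoid.powers e) (Localization.Away e) x).mp h₁
      obtain ⟨y, rfl⟩ := Ideal.mem_span_singleton.mp (Ideal.Quotient.eq_zero_iff_mem.mp h₂)
      calc e * y = e ^ (n + 1) * y := by rw [he.pow_succ_eq]
        _ = e ^ n * (e * y) := by ring
        _ = 0 := hm
    · rintro ⟨a, b⟩
      obtain ⟨a, ⟨_, n, rfl⟩, rfl⟩ := IsLocalization.exists_mk'_eq (Submonoid.powers e) a
      obtain ⟨b, rfl⟩ := Ideal.Quotient.mk_surjective b
      refine ⟨e * a + (1 - e) * b, Prod.ext ?_ ?_⟩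
      · change algebraMap T (Localization.Away e) (e * a + (1 - e) * b) = _
        rw [IsLocalization.eq_mk'_iff_mul_eq]
        simp [h1]
      · change Ideal.Quotient.mk (Ideal.span {e}) (e * a + (1 - e) * b) = _
        rw [Ideal.Quotient.eq]
        exact Ideal.mem_span_singleton.mpr ⟨a - b, by ring⟩)

/-- The family extended by one more member. -/
abbrev consFam {ι : Type} (X : Type u) (A : ι → Type u) : Option ι → Type u
  | none => X
  | some i => A i

noncomputable instance consFamRing {ι : Type} (X : Type u) (A : ι → Type u) [CommRing X]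
    [∀ i, CommRing (A i)] : ∀ o, CommRing (consFam X A o)
  | none => inferInstanceAs (CommRing X)
  | some i => inferInstanceAs (CommRing (A i))

noncomputable instance consFamAlgebra {R : Type u} [CommRing R] {ι : Type} (X : Type u)
    (A : ι → Type u) [CommRing X] [∀ i, CommRing (A i)] [Algebra R X] [∀ i, Algebra R (A i)] :
    ∀ o, Algebra R (consFam X A o)
  | none => inferInstanceAs (Algebra R X)
  | some i => inferInstanceAs (Algebra R (A i))

/-- `X × Π A ≃ Π (X :: A)`. -/
def consFamEquiv {R : Type u} [CommRing R] {ι : Type} (X : Type u) (A : ι → Type u) [CommRing X]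
    [∀ i, CommRing (A i)] [Algebra R X] [∀ i, Algebra R (A i)] :
    (X × ∀ i, A i) ≃ₐ[R] ∀ o, consFam X A o where
  toFun x := fun o => match o with
    | none => x.1
    | some i => x.2 i
  invFun f := (f none, fun i => f (some i))
  left_inv _ := rfl
  right_inv f := by funext o; cases o <;> rfl
  map_mul' _ _ := by funext o; cases o <;> rfl
  map_add' _ _ := by funext o; cases o <;> rfl
  commutes' _ := by funext o; cases o <;> rfl

/-- Associativity of products of algebras. -/
def prodAssocSymm (R A B C : Type u) [CommRing R] [CommRing A] [CommRing B] [CommRing C]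
    [Algebra R A] [Algebra R B] [Algebra R C] : (A × (B × C)) ≃ₐ[R] (A × B) × C where
  toFun x := ((x.1, x.2.1), x.2.2)
  invFun x := (x.1.1, (x.1.2, x.2))
  left_inv _ := rfl
  right_inv _ := rfl
  map_mul' _ _ := rfl
  map_add' _ _ := rfl
  commutes' _ := rfl

/-- A prime has exactly one prime over it. -/
def UniqueOver (R : Type u) [CommRing R] (A : Type u) [CommRing A] [Algebra R A]
    (p : Ideal R) : Prop :=
  ∃! r : Ideal A, r.IsPrime ∧ r.comap (algebraMap R A) = p

/-- The decomposition statement, with finite index type. -/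
def HasDec (R : Type u) [CommRing R] (S : Type u) [CommRing S] [Algebra R S] (p : Ideal R)
    [p.IsPrime] : Prop :=
  ∃ (R' : Type u) (_ : CommRing R') (_ : Algebra R R') (_ : Algebra.Etale R R') (P : Ideal R')
    (_ : P.IsPrime) (_ : P.LiesOver p) (ι : Type) (_ : Fintype ι) (A : ι → Type u)
    (_ : ∀ i, CommRing (A i)) (_ : ∀ i, Algebra R' (A i)) (B : Type u) (_ : CommRing B)
    (_ : Algebra R' B),
    Function.Bijective (Ideal.ResidueField.mapₐ p P (Algebra.ofId _ _) (P.over_def p)) ∧
    Nonempty ((R' ⊗[R] S) ≃ₐ[R'] ((∀ i, A i) × B)) ∧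
    (∀ i, Module.Finite R' (A i) ∧ UniqueOver R' (A i) P) ∧
    isoPrimes R' B P = ∅

lemma hasDec_of_empty {R : Type u} [CommRing R] {S : Type u} [CommRing S] [Algebra R S]
    (p : Ideal R) [p.IsPrime] (h : isoPrimes R S p = ∅) : HasDec R S p := by
  refine ⟨R, inferInstance, inferInstance, inferInstance, p, inferInstance, ⟨rfl⟩, Empty,
    inferInstance, fun _ => R, inferInstance, inferInstance, S, inferInstance, inferInstance,
    ?_, ⟨?_⟩, fun i => i.elim, h⟩
  · rw! [Algebra.ofId_self, Ideal.ResidueField.mapₐ_id]; exact Function.bijective_id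
  · exact (Algebra.TensorProduct.lid R S).trans (AlgEquiv.ofBijective
      ((Pi.algHom R (fun _ : Empty => R) (fun i => i.elim)).prod
        (AlgHom.id R S))
      ⟨fun x y h => congrArg Prod.snd h, fun x => ⟨x.2, Prod.ext (Subsingleton.elim _ _) rfl⟩⟩)

lemma uniqueOver_step {R : Type u} [CommRing R] {S : Type u} [CommRing S] [Algebra R S]
    {R' : Type u} [CommRing R'] [Algebra R R'] (P : Ideal R') [P.IsPrime]
    (e : R' ⊗[R] S) (P' : Ideal (R' ⊗[R] S)) [P'.IsPrime] [P'.LiesOver P] (heP' : e ∉ P')
    (H : ∀ P'' : Ideal (R' ⊗[R] S), P''.IsPrime → P''.LiesOver P → e ∉ P'' → P'' = P')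
    {R'' : Type u} [CommRing R''] [Algebra R' R''] (Q : Ideal R'') [Q.IsPrime] [Q.LiesOver P]
    (hPQ : Function.Bijective (Ideal.ResidueField.mapₐ P Q (Algebra.ofId _ _) (Q.over_def P))) :
    UniqueOver R'' (R'' ⊗[R'] Localization.Away e) Q := by
  let G := Ideal.fiberIsoOfBijectiveResidueField hPQ (S := Localization.Away e)
  let f : R' ⊗[R] S →+* Localization.Away e := algebraMap _ _
  have hd : Disjoint (Submonoid.powers e : Set (R' ⊗[R] S)) P' := by
    rwa [Ideal.disjoint_powers_iff_notMem_of_isPrime]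
  have hmap : (P'.map f).IsPrime :=
    IsLocalization.isPrime_of_isPrime_disjoint (Submonoid.powers e) _ _ ‹_› hd
  have hunder : (P'.map f).comap f = P' :=
    IsLocalization.under_map_of_isPrime_disjoint (Submonoid.powers e) _ ‹_› hd
  let x₀ : P.primesOver (Localization.Away e) := ⟨P'.map f, hmap, ⟨by
    refine (Ideal.over_def P' P).trans ?_
    change P'.comap _ = (P'.map f).comap _
    rw [IsScalarTower.algebraMap_eq R' (R' ⊗[R] S) (Localization.Away e), ← Ideal.comap_comap,
      hunder]⟩⟩
  have hone : ∀ x : P.primesOver (Localization.Away e), x = x₀ := by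
    rintro ⟨x, hx, hxo⟩
    have h1 : (x.comap f).LiesOver P := ⟨by
      rw [hxo.over]
      change x.comap _ = (x.comap f).comap _
      rw [IsScalarTower.algebraMap_eq R' (R' ⊗[R] S) (Localization.Away e), ← Ideal.comap_comap]⟩
    have h2 : e ∉ x.comap f := fun he =>
      hx.ne_top (Ideal.eq_top_of_isUnit_mem _ he (IsLocalization.Away.algebraMap_isUnit e))
    have h3 := H _ (Ideal.IsPrime.comap f) h1 h2
    apply Subtype.ext
    exact (IsLocalization.map_under (Submonoid.powers e) (Localization.Away e) x).symm.trans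
      (congrArg (Ideal.map f) h3)
  refine ⟨(G.symm x₀).1, ⟨(G.symm x₀).2.1, ((G.symm x₀).2.2.over).symm⟩, ?_⟩
  rintro r ⟨hr, hr'⟩
  have := hone (G ⟨r, hr, ⟨hr'.symm⟩⟩)
  rw [← this, OrderIso.symm_apply_apply]

theorem hasDec (n : ℕ) : ∀ (R : Type u) [CommRing R] (S : Type u) [CommRing S] [Algebra R S]
    [Algebra.FiniteType R S] (p : Ideal R) [p.IsPrime],
    (isoPrimes R S p).ncard = n → HasDec R S p := by
  induction n using Nat.strong_induction_on with
  | h n IH =>
  intro R _ S _ _ _ p _ hn
  rcases (isoPrimes R S p).eq_empty_or_nonempty with h | ⟨q, hq⟩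
  · exact hasDec_of_empty p h
  haveI : q.1.IsPrime := q.2.1
  haveI : q.1.LiesOver p := q.2.2
  haveI : Algebra.QuasiFiniteAt R q.1 := (quasiFiniteAt_iff_isoPrimes p q).mpr hq
  obtain ⟨R', _, _, _, P, _, _, e, he, P', _, _, hP'q, heP', hpP, hfin, H⟩ :=
    Algebra.exists_etale_isIdempotentElem_forall_liesOver_eq p q.1
  have hlt := ncard_isoPrimes_quotient_lt p q hq P hpP e he P' hP'q heP'
  have : Algebra.FiniteType R' ((R' ⊗[R] S) ⧸ Ideal.span {e}) :=
    .of_surjective (Ideal.Quotient.mkₐ R' (Ideal.span {e})) Ideal.Quotient.mk_surjective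
  obtain ⟨R'', _, _, _, Q, _, _, ι, _, A, _, _, B, _, _, hPQ, ⟨E⟩, hA, hB⟩ :=
    IH _ (hn ▸ hlt) R' ((R' ⊗[R] S) ⧸ Ideal.span {e}) P rfl
  letI : Algebra R R'' := .compHom _ (algebraMap R R')
  haveI : IsScalarTower R R' R'' := .of_algebraMap_eq' rfl
  haveI : Q.LiesOver p := .trans _ P _
  refine ⟨R'', inferInstance, inferInstance, .comp R R' R'', Q, ‹_›, ‹_›, Option ι, inferInstance,
    consFam (R'' ⊗[R'] Localization.Away e) A, inferInstance, inferInstance, B, inferInstance,
    inferInstance, bijective_mapₐ_comp p P Q hpP hPQ, ⟨?_⟩, ?_, hB⟩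
  · exact (Algebra.TensorProduct.cancelBaseChange R R' R'' R'' S).symm.trans <|
      (Algebra.TensorProduct.congr AlgEquiv.refl (splitIdem (R := R') e he)).trans <|
      (Algebra.TensorProduct.prodRight R' R'' R'' _ _).trans <|
      (AlgEquiv.prodCongr AlgEquiv.refl E).trans <|
      (prodAssocSymm R'' _ _ _).trans <|
      AlgEquiv.prodCongr (consFamEquiv (R := R'') _ A) AlgEquiv.refl
  · rintro (_ | i)
    · exact ⟨show Module.Finite R'' (R'' ⊗[R'] Localization.Away e) from inferInstance,
        uniqueOver_step P e P' heP' H Q hPQ⟩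
    · exact hA i

end Groth.Agent.EtaleDec
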