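import Mathlib.RingTheory.Etale.QuasiFinite
import Mathlib.RingTheory.Spectrum.Prime.Jacobson

/-!
Isolated primes of a fibre (primes both minimal and maximal in the fibre) and quasi-finiteness,
behaviour under étale neighbourhoods with trivial residue field extension and under splitting
off an idempotent.
-/

universe u

open TensorProduct

namespace Groth.Agent.EtaleDec

variable {R S : Type u} [CommRing R] [CommRing S] [Algebra R S]

/-- Isolated primes in the fibre over `p`. -/
def isoPrimes (R : Type u) [CommRing R] (S : Type u) [CommRing S] [Algebra R S] (p : Ideal R) :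
    Set (p.primesOver S) :=
  {q | IsMin q ∧ IsMax q}

lemma mem_isoPrimes {p : Ideal R} {q : p.primesOver S} :
    q ∈ isoPrimes R S p ↔ IsMin q ∧ IsMax q := Iff.rfl

lemma orderIso_isoPrimes_iff {α β : Type*} [Preorder α] [Preorder β] (e : α ≃o β) (a : α) :
    (IsMin (e a) ∧ IsMax (e a)) ↔ (IsMin a ∧ IsMax a) := by
  rw [e.isMin_apply, e.isMax_apply]

lemma isoPrimes_finite [Algebra.FiniteType R S] (p : Ideal R) [p.IsPrime] :
    (isoPrimes R S p).Finite := by
  have : IsNoetherianRing (p.Fiber S) :=
    Algebra.FiniteType.isNoetherianRing p.ResidueField _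
  refine Set.Finite.of_finite_image (f := PrimeSpectrum.primesOverOrderIsoFiber R S p) ?_
    (PrimeSpectrum.primesOverOrderIsoFiber R S p).injective.injOn
  refine (PrimeSpectrum.finite_setOfPred_isMin (R := p.Fiber S)).subset ?_
  rintro _ ⟨q, hq, rfl⟩
  exact ((PrimeSpectrum.primesOverOrderIsoFiber R S p).isMin_apply).mpr hq.1

lemma isOpen_singleton_iff {A : Type*} [CommRing A] [IsNoetherianRing A] [IsJacobsonRing A]
    (y : PrimeSpectrum A) : IsOpen ({y} : Set (PrimeSpectrum A)) ↔ IsMin y ∧ IsMax y := by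
  have h : IsOpen ({y} : Set (PrimeSpectrum A)) ↔
      IsClosed ({y} : Set (PrimeSpectrum A)) ∧ StableUnderGeneralization {y} :=
    (PrimeSpectrum.isOpen_singleton_tfae_of_isNoetherian_of_isJacobsonRing y).out 0 2
  rw [h, PrimeSpectrum.isClosed_singleton_iff_isMaximal, ← PrimeSpectrum.isMax_iff,
    PrimeSpectrum.stableUnderGeneralization_singleton, ← PrimeSpectrum.isMin_iff, and_comm]

/-- Quasi-finite at a prime iff the prime is isolated in its fibre. -/
lemma quasiFiniteAt_iff_isoPrimes [Algebra.FiniteType R S] (p : Ideal R) [p.IsPrime]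
    (q : p.primesOver S) :
    haveI : q.1.IsPrime := q.2.1
    Algebra.QuasiFiniteAt R q.1 ↔ q ∈ isoPrimes R S p := by
  haveI hq : q.1.IsPrime := q.2.1
  obtain ⟨q, _, hover⟩ := q
  obtain rfl : p = q.comap (algebraMap R S) := hover.over
  let x : PrimeSpectrum S := ⟨q, hq⟩
  let pp : PrimeSpectrum R := x.comap (algebraMap R S)
  have : IsNoetherianRing (pp.asIdeal.Fiber S) :=
    Algebra.FiniteType.isNoetherianRing pp.asIdeal.ResidueField _
  have : IsJacobsonRing (pp.asIdeal.Fiber S) :=
    isJacobsonRing_of_finiteType (A := pp.asIdeal.ResidueField)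
  change Algebra.QuasiFiniteAt R x.asIdeal ↔ _
  rw [Algebra.quasiFiniteAt_iff_isOpen_singleton_fiber x,
    ← (PrimeSpectrum.preimageHomeomorphFiber R S pp).isOpen_image, Set.image_singleton,
    isOpen_singleton_iff, mem_isoPrimes]
  exact orderIso_isoPrimes_iff (PrimeSpectrum.primesOverOrderIsoFiber R S (q.comap (algebraMap R S)))
    ⟨q, hq, hover⟩

section Step

variable {R' : Type u} [CommRing R'] [Algebra R R']

/-- Residue field bijections compose. -/
lemma bijective_mapₐ_comp {R'' : Type u} [CommRing R''] [Algebra R' R''] [Algebra R R'']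
    [IsScalarTower R R' R''] (p : Ideal R) [p.IsPrime] (P : Ideal R') [P.IsPrime] [P.LiesOver p]
    (Q : Ideal R'') [Q.IsPrime] [Q.LiesOver P] [Q.LiesOver p]
    (h1 : Function.Bijective (Ideal.ResidueField.mapₐ p P (Algebra.ofId _ _) (P.over_def p)))
    (h2 : Function.Bijective (Ideal.ResidueField.mapₐ P Q (Algebra.ofId _ _) (Q.over_def P))) :
    Function.Bijective (Ideal.ResidueField.mapₐ p Q (Algebra.ofId _ _) (Q.over_def p)) := by
  convert h2.comp h1
  rw [← @AlgHom.coe_restrictScalars' R R', ← AlgHom.coe_comp]; congr 1; ext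

/-- Splitting off an idempotent non-vanishing at an isolated prime lowers the number of isolated
primes. -/
lemma ncard_isoPrimes_quotient_lt [Algebra.FiniteType R S] (p : Ideal R) [p.IsPrime]
    (q : p.primesOver S) (hq : q ∈ isoPrimes R S p) (P : Ideal R') [P.IsPrime] [P.LiesOver p]
    (hpP : Function.Bijective (Ideal.ResidueField.mapₐ p P (Algebra.ofId _ _) (P.over_def p)))
    (e : R' ⊗[R] S) (he : IsIdempotentElem e) (P' : Ideal (R' ⊗[R] S)) [hP' : P'.IsPrime]
    [hP'o : P'.LiesOver P] (hP'q : P'.comap Algebra.TensorProduct.includeRight.toRingHom = q.1)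
    (heP' : e ∉ P') :
    (isoPrimes R' ((R' ⊗[R] S) ⧸ Ideal.span {e}) P).ncard < (isoPrimes R S p).ncard := by
  classical
  let F := Ideal.fiberIsoOfBijectiveResidueField hpP (S := S)
  let ι : P.primesOver ((R' ⊗[R] S) ⧸ Ideal.span {e}) → p.primesOver S := fun x ↦
    F ⟨x.1.comap (Ideal.Quotient.mk _), haveI := x.2.1; Ideal.IsPrime.comap _, ⟨x.2.2.over.trans
      (Ideal.comap_comap (algebraMap R' (R' ⊗[R] S)) (Ideal.Quotient.mk (Ideal.span {e}))).symm⟩⟩
  have hle : ∀ x y, x ≤ y → ι x ≤ ι y := fun x y h ↦ F.monotone (Ideal.comap_mono h)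
  have hinj : Function.Injective ι := by
    intro x y h
    apply Subtype.ext
    have := congrArg Subtype.val (F.injective h)
    exact Ideal.comap_injective_of_surjective _ Ideal.Quotient.mk_surjective this
  have hF : F ⟨P', hP', hP'o⟩ = q := Subtype.ext (by
    rw [Ideal.comap_fiberIsoOfBijectiveResidueField_apply]; exact hP'q)
  have hrange : ∀ z : P.primesOver (R' ⊗[R] S), e ∈ z.1 → ∃ x, ι x = F z := by
    intro z hz
    have hker : RingHom.ker (Ideal.Quotient.mk (Ideal.span {e})) ≤ z.1 := by
      rw [Ideal.mk_ker, Ideal.span_le]; simpa using hz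
    have hc : (z.1.map (Ideal.Quotient.mk (Ideal.span {e}))).comap (Ideal.Quotient.mk _) = z.1 :=
      (Ideal.comap_map_of_surjective _ Ideal.Quotient.mk_surjective _).trans
        (sup_eq_left.mpr hker)
    haveI := z.2.1
    refine ⟨⟨z.1.map (Ideal.Quotient.mk _), Ideal.map_isPrime_of_surjective
      Ideal.Quotient.mk_surjective hker, ⟨?_⟩⟩, ?_⟩
    · conv_lhs => rw [z.2.2.over, ← hc]
      rfl
    · exact congrArg F (Subtype.ext hc)
  have hmemι : ∀ x, e ∈ (F.symm (ι x)).1 := by
    intro x
    simp only [ι, OrderIso.symm_apply_apply, Ideal.mem_comap]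
    rw [Ideal.Quotient.eq_zero_iff_mem.mpr (Ideal.mem_span_singleton_self e)]
    exact zero_mem _
  have hsub : ι '' isoPrimes R' _ P ⊆ isoPrimes R S p \ {q} := by
    rintro _ ⟨x, hx, rfl⟩
    refine ⟨⟨fun z hz ↦ ?_, fun z hz ↦ ?_⟩, ?_⟩
    · have h1 : (F.symm z).1 ≤ (F.symm (ι x)).1 := F.symm.monotone hz
      have h2 : e ∈ (F.symm z).1 := by
        haveI := (F.symm z).2.1
        haveI := (F.symm (ι x)).2.1
        have h3 : e * (1 - e) = 0 := he.mul_one_sub_self
        refine ((Ideal.IsPrime.mem_or_mem inferInstance (h3 ▸ zero_mem (F.symm z).1))).resolve_right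
          fun h ↦ ?_
        exact Ideal.IsPrime.one_notMem (I := (F.symm (ι x)).1) inferInstance
          (by convert add_mem (hmemι x) (h1 h); ring)
      obtain ⟨y, hy⟩ := hrange _ h2
      rw [OrderIso.apply_symm_apply] at hy
      subst hy
      refine hle x y (hx.1 ?_)
      exact (Ideal.comap_le_comap_iff_of_surjective _ Ideal.Quotient.mk_surjective _ _).mp
        (by simpa [ι] using h1)
    · have h1 : (F.symm (ι x)).1 ≤ (F.symm z).1 := F.symm.monotone hz
      obtain ⟨y, hy⟩ := hrange _ (h1 (hmemι x))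
      rw [OrderIso.apply_symm_apply] at hy
      subst hy
      refine hle y x (hx.2 ?_)
      exact (Ideal.comap_le_comap_iff_of_surjective _ Ideal.Quotient.mk_surjective _ _).mp
        (by simpa [ι] using h1)
    · intro h
      have := hmemι x
      rw [Set.mem_singleton_iff.mp h, ← hF, OrderIso.symm_apply_apply] at this
      exact heP' this
  calc (isoPrimes R' _ P).ncard = (ι '' isoPrimes R' _ P).ncard :=
        (Set.ncard_image_of_injective _ hinj).symm
    _ ≤ (isoPrimes R S p \ {q}).ncard :=
        Set.ncard_le_ncard hsub ((isoPrimes_finite p).subset Set.diff_subset)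
    _ < _ := Set.ncard_diff_singleton_lt_of_mem hq (isoPrimes_finite p)

end Step

end Groth.Agent.EtaleDec
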